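import Cfsg.Agent.Lib.Helper35.SuzOrd.U3.Data

set_option Elab.async false

namespace Cfsg.Agent.Lib.Helper35.SuzOrd.U3

open Cfsg.Agent.Lib.Helper35

theorem s0c0 : allBelow (fun k => fs0 (Nat.add (Nat.succ 0) k)) 4868 = true := by decide +kernel
theorem s0u0 : ∀ v, 1 ≤ v → v ≤ 4868 → fs0 v = true := slots_step fs0 0 4868 4868 (slots_zero fs0) s0c0 rfl
theorem s0c1 : allBelow (fun k => fs0 (Nat.add (Nat.succ 4868) k)) 5255 = true := by decide +kernel
theorem s0u1 : ∀ v, 1 ≤ v → v ≤ 10123 → fs0 v = true := slots_step fs0 4868 5255 10123 s0u0 s0c1 rfl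
theorem s0c2 : allBelow (fun k => fs0 (Nat.add (Nat.succ 10123) k)) 5109 = true := by decide +kernel
theorem s0u2 : ∀ v, 1 ≤ v → v ≤ 15232 → fs0 v = true := slots_step fs0 10123 5109 15232 s0u1 s0c2 rfl
theorem s1c0 : allBelow (fun k => fs1 (Nat.add (Nat.succ 0) k)) 4814 = true := by decide +kernel
theorem s1u0 : ∀ v, 1 ≤ v → v ≤ 4814 → fs1 v = true := slots_step fs1 0 4814 4814 (slots_zero fs1) s1c0 rfl
theorem s1c1 : allBelow (fun k => fs1 (Nat.add (Nat.succ 4814) k)) 5068 = true := by decide +kernel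
theorem s1u1 : ∀ v, 1 ≤ v → v ≤ 9882 → fs1 v = true := slots_step fs1 4814 5068 9882 s1u0 s1c1 rfl
theorem s1c2 : allBelow (fun k => fs1 (Nat.add (Nat.succ 9882) k)) 5308 = true := by decide +kernel
theorem s1u2 : ∀ v, 1 ≤ v → v ≤ 15190 → fs1 v = true := slots_step fs1 9882 5308 15190 s1u1 s1c2 rfl
theorem s1c3 : allBelow (fun k => fs1 (Nat.add (Nat.succ 15190) k)) 42 = true := by decide +kernel
theorem s1u3 : ∀ v, 1 ≤ v → v ≤ 15232 → fs1 v = true := slots_step fs1 15190 42 15232 s1u2 s1c3 rfl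
theorem s2c0 : allBelow (fun k => fs2 (Nat.add (Nat.succ 0) k)) 4848 = true := by decide +kernel
theorem s2u0 : ∀ v, 1 ≤ v → v ≤ 4848 → fs2 v = true := slots_step fs2 0 4848 4848 (slots_zero fs2) s2c0 rfl
theorem s2c1 : allBelow (fun k => fs2 (Nat.add (Nat.succ 4848) k)) 4991 = true := by decide +kernel
theorem s2u1 : ∀ v, 1 ≤ v → v ≤ 9839 → fs2 v = true := slots_step fs2 4848 4991 9839 s2u0 s2c1 rfl
theorem s2c2 : allBelow (fun k => fs2 (Nat.add (Nat.succ 9839) k)) 5302 = true := by decide +kernel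
theorem s2u2 : ∀ v, 1 ≤ v → v ≤ 15141 → fs2 v = true := slots_step fs2 9839 5302 15141 s2u1 s2c2 rfl
theorem s2c3 : allBelow (fun k => fs2 (Nat.add (Nat.succ 15141) k)) 91 = true := by decide +kernel
theorem s2u3 : ∀ v, 1 ≤ v → v ≤ 15232 → fs2 v = true := slots_step fs2 15141 91 15232 s2u2 s2c3 rfl
theorem s3c0 : allBelow (fun k => fs3 (Nat.add (Nat.succ 0) k)) 5145 = true := by decide +kernel
theorem s3u0 : ∀ v, 1 ≤ v → v ≤ 5145 → fs3 v = true := slots_step fs3 0 5145 5145 (slots_zero fs3) s3c0 rfl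
theorem s3c1 : allBelow (fun k => fs3 (Nat.add (Nat.succ 5145) k)) 5237 = true := by decide +kernel
theorem s3u1 : ∀ v, 1 ≤ v → v ≤ 10382 → fs3 v = true := slots_step fs3 5145 5237 10382 s3u0 s3c1 rfl
theorem s3c2 : allBelow (fun k => fs3 (Nat.add (Nat.succ 10382) k)) 4850 = true := by decide +kernel
theorem s3u2 : ∀ v, 1 ≤ v → v ≤ 15232 → fs3 v = true := slots_step fs3 10382 4850 15232 s3u1 s3c2 rfl
theorem s4c0 : allBelow (fun k => fs4 (Nat.add (Nat.succ 0) k)) 4702 = true := by decide +kernel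
theorem s4u0 : ∀ v, 1 ≤ v → v ≤ 4702 → fs4 v = true := slots_step fs4 0 4702 4702 (slots_zero fs4) s4c0 rfl
theorem s4c1 : allBelow (fun k => fs4 (Nat.add (Nat.succ 4702) k)) 3335 = true := by decide +kernel
theorem s4u1 : ∀ v, 1 ≤ v → v ≤ 8037 → fs4 v = true := slots_step fs4 4702 3335 8037 s4u0 s4c1 rfl
theorem s4c2 : allBelow (fun k => fs4 (Nat.add (Nat.succ 8037) k)) 3356 = true := by decide +kernel
theorem s4u2 : ∀ v, 1 ≤ v → v ≤ 11393 → fs4 v = true := slots_step fs4 8037 3356 11393 s4u1 s4c2 rfl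
theorem s4c3 : allBelow (fun k => fs4 (Nat.add (Nat.succ 11393) k)) 3412 = true := by decide +kernel
theorem s4u3 : ∀ v, 1 ≤ v → v ≤ 14805 → fs4 v = true := slots_step fs4 11393 3412 14805 s4u2 s4c3 rfl
theorem s4c4 : allBelow (fun k => fs4 (Nat.add (Nat.succ 14805) k)) 427 = true := by decide +kernel
theorem s4u4 : ∀ v, 1 ≤ v → v ≤ 15232 → fs4 v = true := slots_step fs4 14805 427 15232 s4u3 s4c4 rfl
theorem gz : countBelow gl 0 = 0 := rfl
theorem gk0 : countBelow (fun k => gl (Nat.add 0 k)) 15232 = 2160 := by decide +kernel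
theorem gn0 : countBelow gl 15232 = 2160 := countBelow_step gl 0 15232 15232 0 2160 2160 gz gk0 rfl rfl

end Cfsg.Agent.Lib.Helper35.SuzOrd.U3
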